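import Groth.Agent.CubicSurface.Eckardt
import Mathlib.LinearAlgebra.Matrix.Adjugate
import Mathlib.LinearAlgebra.Determinant
import Mathlib.Tactic

/-!
# Linear Pfaffian representations of cubic surfaces from a point with non-zero second fundamental form

If the cubic vanishes to order five along the arc `Q₀ + t Q₁ + t² Q₂ + t³ Q₃`, it lies in the ideal of
five quadrics which are the Pfaffians of a `5 × 5` skew matrix of linear forms.
-/

set_option autoImplicit false

open MvPolynomial Groth.Agent.CubicSurface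

namespace Groth.Agent.PfaffCubic

/-- a linear Pfaffian representation -/
def HasRep {K : Type*} [Field K] (f : MvPolynomial (Fin 4) K) : Prop :=
  ∃ M : Matrix (Fin 6) (Fin 6) (MvPolynomial (Fin 4) K), (∀ i j, (M i j).IsHomogeneous 1) ∧ M.transpose = -M ∧
    (∀ i, M i i = 0) ∧ ∃ c : K, c ≠ 0 ∧ M.det = C c * f ^ 2

section Mat

variable {R : Type*} [CommRing R]

/-- the bordered skew matrix -/
def pfMat (u : Fin 4 → R) (l : Fin 5 → R) : Matrix (Fin 6) (Fin 6) R :=
  !![0, 0, 0, -u 3, u 2, l 0;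
     0, 0, -u 3, u 2, -u 1, l 1;
     0, u 3, 0, -u 1, u 0, l 2;
     u 3, -u 2, u 1, 0, 0, l 3;
     -u 2, u 1, -u 0, 0, 0, l 4;
     -l 0, -l 1, -l 2, -l 3, -l 4, 0]

theorem pfMat_transpose (u : Fin 4 → R) (l : Fin 5 → R) : (pfMat u l).transpose = -pfMat u l := by
  ext i j
  fin_cases i <;> fin_cases j <;> simp [pfMat]

theorem pfMat_diag (u : Fin 4 → R) (l : Fin 5 → R) (i : Fin 6) : pfMat u l i i = 0 := by
  fin_cases i <;> simp [pfMat]

/-- the Pfaffian combination of the five quadrics -/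
def pfComb (u : Fin 4 → R) (l : Fin 5 → R) : R :=
  l 0 * (u 1 ^ 2 - u 0 * u 2) + l 1 * (u 1 * u 2 - u 0 * u 3) + l 2 * (u 2 ^ 2 - u 1 * u 3) +
    l 3 * (u 2 * u 3) + l 4 * u 3 ^ 2

theorem det_pfMat (u : Fin 4 → R) (l : Fin 5 → R) : (pfMat u l).det = pfComb u l ^ 2 := by
  simp [Matrix.det_succ_row_zero, Fin.sum_univ_succ, Fin.succAbove, pfMat, pfComb]
  ring

end Mat

variable {K : Type*} [Field K] [CharZero K] {f : MvPolynomial (Fin 4) K}

/-- the five linear forms -/
def lcoef {R : Type*} [CommRing R] (u : Fin 4 → R) (τ : Fin 4 → Fin 4 → Fin 4 → R) : Fin 5 → R :=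
  ![3 * τ 0 1 1 * u 0 + -3 * τ 0 2 2 * u 2 + τ 1 1 1 * u 1 + 3 * τ 1 1 3 * u 3,
    6 * τ 0 1 2 * u 0 + 3 * τ 0 2 2 * u 1 + -3 * τ 0 3 3 * u 3 + τ 1 1 1 * u 0 + 3 * τ 1 1 2 * u 1 + 3 * τ 1 2 2 * u 2,
    -3 * τ 1 3 3 * u 3 + τ 2 2 2 * u 2,
    6 * τ 0 2 3 * u 0 + 3 * τ 0 3 3 * u 1 + 3 * τ 1 1 3 * u 0 + 3 * τ 1 2 2 * u 0 + 6 * τ 1 2 3 * u 1 +
      3 * τ 1 3 3 * u 2 + τ 2 2 2 * u 1 + 3 * τ 2 2 3 * u 2 + 3 * τ 2 3 3 * u 3,
    τ 3 3 3 * u 3]

theorem eq_pfComb (Q : Fin 4 → V K) (h0 : S f (Q 0) (Q 0) (Q 0) = 0) (h1 : S f (Q 0) (Q 0) (Q 1) = 0)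
    (h2 : S f (Q 0) (Q 0) (Q 2) + S f (Q 0) (Q 1) (Q 1) = 0)
    (h3 : 3 * S f (Q 0) (Q 0) (Q 3) + 6 * S f (Q 0) (Q 1) (Q 2) + S f (Q 1) (Q 1) (Q 1) = 0)
    (h4 : 2 * S f (Q 0) (Q 1) (Q 3) + S f (Q 0) (Q 2) (Q 2) + S f (Q 1) (Q 1) (Q 2) = 0) (u : Fin 4 → K) :
    S f (∑ i, u i • Q i) (∑ i, u i • Q i) (∑ i, u i • Q i) =
      pfComb u (lcoef u fun a b c => S f (Q a) (Q b) (Q c)) := by
  simp only [Fin.sum_univ_four, S_add1, S_add2, S_add3, S_smul1, S_smul2, S_smul3, pfComb, lcoef,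
    Matrix.cons_val]
  simp only [S_comm12, S_comm23] at h0 h1 h2 h3 h4 ⊢
  linear_combination (u 0 ^ 3) * h0 + (3 * u 0 ^ 2 * u 1) * h1 + (3 * u 0 ^ 2 * u 2) * h2 +
    (u 0 ^ 2 * u 3) * h3 + (3 * u 0 * u 1 * u 3) * h4

theorem hasRep_of_arc (hf : f.IsHomogeneous 3) (Q : Fin 4 → V K) (hQ : LinearIndependent K Q)
    (h0 : S f (Q 0) (Q 0) (Q 0) = 0) (h1 : S f (Q 0) (Q 0) (Q 1) = 0)
    (h2 : S f (Q 0) (Q 0) (Q 2) + S f (Q 0) (Q 1) (Q 1) = 0)
    (h3 : 3 * S f (Q 0) (Q 0) (Q 3) + 6 * S f (Q 0) (Q 1) (Q 2) + S f (Q 1) (Q 1) (Q 1) = 0)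
    (h4 : 2 * S f (Q 0) (Q 1) (Q 3) + S f (Q 0) (Q 2) (Q 2) + S f (Q 1) (Q 1) (Q 2) = 0) : HasRep f := by
  classical
  let b := basisOfLinearIndependentOfCardEqFinrank hQ (by simp)
  have hb : ∀ i, b i = Q i := fun i => by simp [b]
  let u : Fin 4 → MvPolynomial (Fin 4) K := fun i => ∑ j, C (b.repr (Pi.single j 1) i) * X j
  have hu : ∀ x i, eval x (u i) = b.repr x i := by
    intro x i
    simp only [u, map_sum, map_mul, eval_C, eval_X]
    conv_rhs => rw [pi_eq_sum_univ' x, map_sum]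
    rw [Finsupp.finsetSum_apply]
    exact Finset.sum_congr rfl fun j _ => by rw [map_smul, Finsupp.smul_apply, smul_eq_mul, mul_comm]
  have huh : ∀ i, (u i).IsHomogeneous 1 := fun i =>
    IsHomogeneous.sum _ _ 1 fun j _ => by simpa using (isHomogeneous_X K j).C_mul _
  let l := lcoef u fun a b c => C (S f (Q a) (Q b) (Q c))
  have hlh : ∀ i, (l i).IsHomogeneous 1 := by
    have h1' : ∀ (c : K) i, (C c * u i).IsHomogeneous 1 := fun c i => (huh i).C_mul c
    intro i
    fin_cases i <;>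
      simp only [l, lcoef, Fin.isValue, Fin.mk_one, Fin.zero_eta, Fin.reduceFinMk, Matrix.cons_val,
        Nat.ofNat_nonneg] <;>
      (try simp only [neg_mul, ← map_ofNat (C : K →+* MvPolynomial (Fin 4) K), ← map_mul, ← map_neg]) <;>
      repeat' first | exact h1' _ _ | apply IsHomogeneous.add
  refine ⟨pfMat u l, fun i j => ?_, pfMat_transpose u l, pfMat_diag u l, 1, one_ne_zero, ?_⟩
  · fin_cases i <;> fin_cases j <;> simp [pfMat, isHomogeneous_zero, huh, hlh, IsHomogeneous.neg]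
  · rw [det_pfMat, map_one, one_mul]
    congr 1
    have : Infinite K := Infinite.of_injective _ Nat.cast_injective
    refine MvPolynomial.funext fun x => ?_
    have hx : ∑ i, b.repr x i • Q i = x := by
      conv_rhs => rw [← b.sum_repr x]
      exact Finset.sum_congr rfl fun i _ => by rw [hb]
    rw [eval_eq_S hf]
    conv_rhs => rw [← hx]
    rw [eq_pfComb Q h0 h1 h2 h3 h4]
    simp [pfComb, l, lcoef, hu]

theorem hasRep_of_good (hf : f.IsHomogeneous 3) {P w e : V K} (hP : S f P P P = 0) (hw : S f P P w = 0)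
    (hww : S f P w w ≠ 0) (he : S f P P e ≠ 0) : HasRep f := by
  classical
  have hlt : Submodule.span K {P, w} < LinearMap.ker (SL f P P) := by
    refine lt_of_le_of_ne (Submodule.span_le.mpr ?_) fun hEq => ?_
    · rintro x (rfl | rfl)
      exacts [hP, hw]
    · have h1 : Module.finrank K (Submodule.span K {P, w}) ≤ 2 := by
        have := finrank_span_le_card (R := K) ({P, w} : Set (V K))
        refine this.trans ?_
        simpa using Finset.card_le_two (a := P) (b := w)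
      have h2 := LinearMap.finrank_range_add_finrank_ker (SL f P P)
      have h3 : Module.finrank K (LinearMap.range (SL f P P)) ≤ 1 := by
        simpa using Submodule.finrank_le (LinearMap.range (SL f P P))
      rw [← hEq, Module.finrank_fin_fun] at h2
      omega
  obtain ⟨v, hv, hvn⟩ := SetLike.exists_of_lt hlt
  rw [LinearMap.mem_ker, SL_apply] at hv
  set b := S f P P e with hb
  set q := S f P w w with hq
  let a : K := -q / b
  let Q₂ := a • e
  let ρ : K := -(6 * S f P w Q₂ + S f w w w) / (3 * b)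
  let Q₃ := ρ • e + v
  let ε : K := -(2 * S f P w Q₃ + S f P Q₂ Q₂ + S f w w Q₂) / q
  have hab : a * b = -q := div_mul_cancel₀ _ he
  have hρ : 3 * (ρ * b) = -(6 * S f P w Q₂ + S f w w w) := by
    simp only [ρ]; field_simp
  have hε : ε * q = -(2 * S f P w Q₃ + S f P Q₂ Q₂ + S f w w Q₂) := div_mul_cancel₀ _ hww
  have hz1 : ∀ x, S f x P P = S f P P x := fun x => by rw [S_comm12 f x P, S_comm23 f P x]
  have hz2 : ∀ x y, S f x P y = S f P x y := fun x y => S_comm12 f x P y
  have hz3 : ∀ x y, S f x y P = S f P x y := fun x y => by rw [S_comm23 f x y P, S_comm12 f x P y]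
  refine hasRep_of_arc hf ![P, w, Q₂ + ε • P, Q₃ + ε • w] ?_ hP hw ?_ ?_ ?_
  · rw [Fintype.linearIndependent_iff]
    intro g hg
    simp only [Fin.sum_univ_four, Matrix.cons_val] at hg
    have hB := congrArg (fun x => S f P P x) hg
    simp only [Q₂, Q₃, S_add3, S_smul3, hP, hw, hv, ← hb] at hB
    rw [show S f P P (0 : V K) = 0 by simp [S]] at hB
    have hc : g 2 * a + g 3 * ρ = 0 :=
      (mul_eq_zero.mp (show (g 2 * a + g 3 * ρ) * b = 0 by linear_combination hB)).resolve_right he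
    have hsum : (g 0 + g 2 * ε) • P + (g 1 + g 3 * ε) • w + g 3 • v = 0 := by
      rw [← hg]
      have : (g 2 * a + g 3 * ρ) • e = 0 := by rw [hc, zero_smul]
      simp only [Q₂, Q₃, smul_add, smul_smul, add_smul] at this ⊢
      linear_combination (norm := module) -this
    have g3 : g 3 = 0 := by
      by_contra hne
      refine hvn ?_
      have hv' : v = (-(g 3)⁻¹ * (g 0 + g 2 * ε)) • P + (-(g 3)⁻¹ * (g 1 + g 3 * ε)) • w := by
        have h' := congrArg (fun x => (g 3)⁻¹ • x) hsum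
        simp only [smul_add, smul_smul, smul_zero, inv_mul_cancel₀ hne, one_smul] at h'
        linear_combination (norm := module) h'
      rw [hv']
      exact Submodule.add_mem _ (Submodule.smul_mem _ _ (Submodule.subset_span (Set.mem_insert _ _)))
        (Submodule.smul_mem _ _ (Submodule.subset_span (Set.mem_insert_of_mem _ rfl)))
    rw [g3] at hsum hc
    simp only [zero_mul, add_zero, zero_smul] at hsum hc
    have hq1 := congrArg (fun x => S f P w x) hsum
    simp only [S_add3, S_smul3] at hq1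
    rw [show S f P w (0 : V K) = 0 by simp [S], show S f P w P = 0 by rw [S_comm23, hw]] at hq1
    have g1 : g 1 = 0 := (mul_eq_zero.mp (show g 1 * q = 0 by linear_combination hq1)).resolve_right hww
    rw [g1, zero_smul, add_zero] at hsum
    have g0 : g 0 + g 2 * ε = 0 := by
      refine (smul_eq_zero.mp hsum).resolve_right fun h0 => he ?_
      rw [hb, h0]; simp [S]
    have ha0 : a ≠ 0 := fun h => hww (by rw [h, zero_mul] at hab; linear_combination hab)
    have g2 : g 2 = 0 := (mul_eq_zero.mp hc).resolve_right ha0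
    rw [g2, zero_mul, add_zero] at g0
    intro i
    fin_cases i <;> assumption
  · simp only [Matrix.cons_val, Q₂, S_add3, S_smul3, hP, ← hb, ← hq]
    linear_combination hab
  · simp only [Matrix.cons_val]
    have e1 : S f P w P = 0 := by rw [S_comm23, hw]
    simp only [S_add3, S_smul3, e1, hw]
    simp only [Q₃, S_add3, S_smul3, hv, ← hb]
    linear_combination hρ
  · simp only [Matrix.cons_val]
    have e1 : S f w w P = q := by rw [hz3]
    have e2 : S f P Q₂ P = a * b := by rw [S_comm23]; simp [Q₂, S_smul3, ← hb]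
    have e3 : S f P P Q₂ = a * b := by simp [Q₂, S_smul3, ← hb]
    simp only [S_add2, S_add3, S_smul2, S_smul3, e1, e2, e3, hP, ← hq]
    linear_combination hε + 2 * ε * hab

end Groth.Agent.PfaffCubic
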