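import Groth.Agent.PfaffCubic.Algebra
import Mathlib.RingTheory.Nullstellensatz
import Mathlib.RingTheory.MvPolynomial.IrreducibleQuadratic
import Mathlib.RingTheory.AdjoinRoot
import Mathlib.RingTheory.Polynomial.UniqueFactorization
import Mathlib.RingTheory.Ideal.GoingUp
import Mathlib.Tactic

/-!
# Points with non-zero second fundamental form on cubic surfaces
-/

set_option autoImplicit false

open MvPolynomial Groth.Agent.CubicSurface

universe u w

namespace Groth.Agent.PfaffCubic

variable {K : Type u} [Field K] [CharZero K]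

/-- the polar -/
noncomputable def polA (f : MvPolynomial (Fin 4) K) (v : V K) : MvPolynomial (Fin 4) K :=
  ∑ i, C (v i) * pderiv i f

/-- the second polar -/
noncomputable def polB (f : MvPolynomial (Fin 4) K) (v e : V K) : MvPolynomial (Fin 4) K :=
  polA (polA f v) e

/-- the second fundamental form in the tangent direction spanned by `v`, `e` -/
noncomputable def psi (f : MvPolynomial (Fin 4) K) (v e : V K) : MvPolynomial (Fin 4) K :=
  polA f e ^ 2 * polB f v v - 2 * polA f e * polA f v * polB f v e + polA f v ^ 2 * polB f e e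

/-- the value of `psi` in terms of the trilinear form -/
noncomputable def psiS (f : MvPolynomial (Fin 4) K) (x v e : V K) : K :=
  S f x x e ^ 2 * S f x v v - 2 * S f x x e * S f x x v * S f x v e + S f x x v ^ 2 * S f x e e

/-- a point with non-zero second fundamental form -/
def Good (f : MvPolynomial (Fin 4) K) : Prop :=
  ∃ P w e : V K, S f P P P = 0 ∧ S f P P w = 0 ∧ S f P w w ≠ 0 ∧ S f P P e ≠ 0

variable {f : MvPolynomial (Fin 4) K}

theorem hasRep_of_exists_good (hf : f.IsHomogeneous 3) (h : Good f) : HasRep f := by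
  obtain ⟨P, w, e, h1, h2, h3, h4⟩ := h
  exact hasRep_of_good hf h1 h2 h3 h4

theorem S_lin3 (x y z : V K) : S f x y z = ∑ i, z i * S f x y (Pi.single i 1) := by
  conv_lhs => rw [← SL_apply, pi_eq_sum_univ' z, map_sum]
  exact Finset.sum_congr rfl fun i _ => by rw [map_smul, SL_apply, smul_eq_mul]

theorem S_lin23 (x y z : V K) : S f x y z = ∑ i, ∑ j, y i * z j * S f x (Pi.single i 1) (Pi.single j 1) := by
  rw [S_comm23, S_lin3]
  refine Finset.sum_congr rfl fun i _ => ?_
  rw [S_comm23, S_lin3 (z := z), Finset.mul_sum]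
  exact Finset.sum_congr rfl fun j _ => by rw [mul_assoc]

theorem eval_polA (hf : f.IsHomogeneous 3) (x v : V K) : eval x (polA f v) = 3 * S f x x v := by
  rw [S_lin3 x x v, Finset.mul_sum, polA, map_sum]
  exact Finset.sum_congr rfl fun i _ => by rw [map_mul, eval_C, eval_pderiv_eq_S hf]; ring

theorem polA_hom {g : MvPolynomial (Fin 4) K} {n : ℕ} (hg : g.IsHomogeneous n) (v : V K) :
    (polA g v).IsHomogeneous (n - 1) :=
  IsHomogeneous.sum _ _ _ fun i _ => hg.pderiv.C_mul _

theorem eval_polB (hf : f.IsHomogeneous 3) (x v e : V K) : eval x (polB f v e) = 6 * S f x v e := by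
  have h2 : ∀ i j, eval x (pderiv j (pderiv i f)) = ∑ k, x k * c3 f i j k := by
    intro i j
    have := congrArg (eval x) ((hf.pderiv (i := i)).pderiv (i := j)).sum_X_mul_pderiv
    simp only [map_sum, map_mul, eval_X, c3_const hf] at this
    simpa using this.symm
  rw [S_comm12 f x v e, S_comm23 f v x e]
  simp only [polB, polA, map_sum, Derivation.leibniz, pderiv_C, smul_zero, add_zero, smul_eq_mul, map_add, map_zero, mul_zero, map_mul, eval_C, h2, S]
  rw [← mul_assoc, show (6 : K) * (1 / 6) = 1 by norm_num, one_mul, Finset.sum_comm]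
  simp only [Finset.mul_sum]
  exact Finset.sum_congr rfl fun i _ => Finset.sum_congr rfl fun j _ => Finset.sum_congr rfl fun k _ => by ring

theorem eval_psi (hf : f.IsHomogeneous 3) (x v e : V K) : eval x (psi f v e) = 54 * psiS f x v e := by
  simp only [psi, psiS, map_add, map_sub, map_mul, map_pow, map_ofNat, eval_polA hf, eval_polB hf]
  ring

theorem good_of_ne {x v e : V K} (h0 : S f x x x = 0) (h : psiS f x v e ≠ 0) : Good f := by
  classical
  set W := S f x x e • v + (-S f x x v) • e with hW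
  have h1 : S f x x W = 0 := by rw [hW, S_add3, S_smul3, S_smul3]; ring
  have h2 : S f x W W = psiS f x v e := by
    rw [hW, psiS]
    simp only [S_add2, S_add3, S_smul2, S_smul3]
    rw [S_comm23 f x e v]; ring
  refine ⟨x, W, if S f x x e = 0 then v else e, h0, h1, h2 ▸ h, ?_⟩
  split_ifs with he
  · intro hv; exact h (by simp [psiS, he, hv])
  · exact he

theorem psiS_smul (x v e : V K) (r : K) : psiS f (r • x) v e = r ^ 5 * psiS f x v e := by
  simp only [psiS, S_smul1, S_smul2]; ring

theorem dvd_of_vanish [IsAlgClosed K] {p g : MvPolynomial (Fin 4) K} (hp : Irreducible p)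
    (h : ∀ x : V K, eval x p = 0 → eval x g = 0) : p ∣ g := by
  have hprime : (Ideal.span {p}).IsPrime :=
    (Ideal.span_singleton_prime hp.ne_zero).mpr hp.prime
  have h1 := MvPolynomial.vanishingIdeal_zeroLocus_eq_radical (K := K) (Ideal.span {p})
  rw [hprime.radical] at h1
  rw [← Ideal.mem_span_singleton, ← h1, mem_vanishingIdeal_iff]
  intro x hx
  have hx' := hx p (Ideal.mem_span_singleton_self p)
  rw [aeval_eq_eval] at hx' ⊢
  exact h x hx'

theorem not_dvd_of_lt {p g : MvPolynomial (Fin 4) K} {a b : ℕ} (hp : p.IsHomogeneous a) (hp0 : p ≠ 0)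
    (hg : g.IsHomogeneous b) (hg0 : g ≠ 0) (hab : b < a) : ¬ p ∣ g := fun h => by
  have := totalDegree_le_of_dvd_of_isDomain h hg0
  rw [hp.totalDegree hp0, hg.totalDegree hg0] at this
  omega

theorem exists_smooth [IsAlgClosed K] (hf : f.IsHomogeneous 3) (hirr : Irreducible f) :
    ∃ P e : V K, S f P P P = 0 ∧ S f P P e ≠ 0 := by
  by_contra hc
  push Not at hc
  have hz : ∀ i, pderiv i f = 0 := fun i => by
    by_contra h0
    exact not_dvd_of_lt hf hirr.ne_zero hf.pderiv h0 (by norm_num) (dvd_of_vanish hirr fun x hx => by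
      rw [eval_pderiv_eq_S hf, hc x _ (by rw [← eval_eq_S hf]; exact hx), mul_zero])
  have h := hf.sum_X_mul_pderiv
  simp only [hz, mul_zero, Finset.sum_const_zero] at h
  rw [nsmul_eq_mul] at h
  exact mul_ne_zero (Nat.cast_ne_zero.mpr (by norm_num)) hirr.ne_zero h.symm

theorem not_forall_psiS [IsAlgClosed K] (hf : f.IsHomogeneous 3) (hirr : Irreducible f)
    (h : ∀ x v e : V K, S f x x x = 0 → psiS f x v e = 0) : False := by
  obtain ⟨P, e, hP, he⟩ := exists_smooth hf hirr
  have hplane : ∀ v, S f P P v = 0 → S f v v v = 0 := by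
    intro v hv
    have h2 : S f P v v = 0 := by
      have := h P v e hP
      simp only [psiS, hv] at this
      have : S f P P e ^ 2 * S f P v v = 0 := by linear_combination this
      exact (mul_eq_zero.mp this).resolve_left (pow_ne_zero _ he)
    obtain ⟨q, hq⟩ := dvd_of_vanish hirr (g := psi f v e) fun x hx => by
      rw [eval_psi hf, h x v e (by rw [← eval_eq_S hf]; exact hx), mul_zero]
    let σ : MvPolynomial (Fin 4) K →ₐ[K] Polynomial K :=
      aeval fun i => Polynomial.C (P i) + Polynomial.X * Polynomial.C (v i)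
    have hσ : ∀ (g : MvPolynomial (Fin 4) K) (t : K), (σ g).eval t = eval (P + t • v) g := by
      intro g t
      have : ((Polynomial.evalRingHom t).comp σ.toRingHom) = eval (P + t • v) :=
        MvPolynomial.ringHom_ext (fun r => by simp [σ]) fun i => by (simp [σ]; try ring)
      exact congrArg (fun φ => φ g) this
    have : Infinite K := Infinite.of_injective _ Nat.cast_injective
    have hl : σ f = Polynomial.X ^ 3 * Polynomial.C (S f v v v) := Polynomial.funext fun t => by
      rw [hσ, eval_eq_S hf, expand, hP, hv, h2]; simp; ring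
    set c := S f v v v with hc
    set r₁ := Polynomial.C (2 * S f P v e) + Polynomial.X * Polynomial.C (S f v v e)
    set ae := Polynomial.C (S f P P e) + Polynomial.X * r₁ with hae
    set r₂ : Polynomial K := -2 * ae * Polynomial.C c * (Polynomial.C (S f P v e) + Polynomial.X * Polynomial.C (S f v v e)) +
      Polynomial.X ^ 2 * Polynomial.C c ^ 2 * (Polynomial.C (S f P e e) + Polynomial.X * Polynomial.C (S f v e e))
    have hr : σ (psi f v e) = 54 * (Polynomial.X * (ae ^ 2 * Polynomial.C c) + Polynomial.X ^ 2 * r₂) :=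
      Polynomial.funext fun t => by
        rw [hσ, eval_psi hf, psiS]
        simp only [S_add1, S_add2, S_smul1, S_smul2]
        rw [S_comm12 f v P e, S_comm12 f v P v]
        simp [hae, r₁, r₂, hP, hv, h2, hc]
        ring
    have h4 := congrArg (fun g => Polynomial.coeff g 1) (hr.symm.trans (by rw [hq, map_mul]))
    simp only [hl] at h4
    have e1 : (54 * (Polynomial.X * (ae ^ 2 * Polynomial.C c) + Polynomial.X ^ 2 * r₂) : Polynomial K).coeff 1 =
        54 * (S f P P e ^ 2 * c) := by
      rw [show (54 : Polynomial K) = Polynomial.C 54 from (map_ofNat Polynomial.C 54).symm, Polynomial.coeff_C_mul,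
        Polynomial.coeff_add, Polynomial.coeff_X_mul, Polynomial.coeff_X_pow_mul', if_neg (by norm_num), add_zero]
      simp [hae, Polynomial.coeff_zero_eq_eval_zero]
    rw [e1, mul_assoc (Polynomial.X ^ 3), Polynomial.coeff_X_pow_mul', if_neg (by norm_num)] at h4
    simpa [he] using h4
  let L : MvPolynomial (Fin 4) K := ∑ i, C (S f P P (Pi.single i 1)) * X i
  have hL : ∀ x, eval x L = S f P P x := fun x => by
    rw [S_lin3 P P x]; simp [L, mul_comm]
  have hL0 : L ≠ 0 := fun h0 => he (by rw [← hL, h0, map_zero])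
  have hLh : L.IsHomogeneous 1 := IsHomogeneous.sum _ _ 1 fun i _ => by simpa using (isHomogeneous_X K i).C_mul _
  have hLirr : Irreducible L := irreducible_of_totalDegree_eq_one (hLh.totalDegree hL0) fun x hx => by
    obtain ⟨d, hd⟩ := MvPolynomial.ne_zero_iff.mp hL0
    exact isUnit_iff_ne_zero.mpr fun hx0 => hd (zero_dvd_iff.mp (hx0 ▸ hx d))
  have hLf : L ∣ f := dvd_of_vanish hLirr fun x hx => by
    rw [eval_eq_S hf]; exact hplane x (by rw [← hL]; exact hx)
  exact not_dvd_of_lt hf hirr.ne_zero hLh hL0 (by norm_num) ((hLirr.associated_of_dvd hirr hLf).dvd')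

section BaseChange

variable {k : Type w} [Field k] [CharZero k] (ι : k →+* K)

theorem map_polA (g : MvPolynomial (Fin 4) k) (v : V k) :
    MvPolynomial.map ι (polA g v) = polA (MvPolynomial.map ι g) (ι ∘ v) := by
  simp [polA, pderiv_map]

theorem map_psi (g : MvPolynomial (Fin 4) k) (v e : V k) :
    MvPolynomial.map ι (psi g v e) = psi (MvPolynomial.map ι g) (ι ∘ v) (ι ∘ e) := by
  simp [psi, polB, map_polA]

variable [IsAlgClosed K] {g : MvPolynomial (Fin 4) k}

theorem exists_psi_not_dvd (hg : g.IsHomogeneous 3) (hirr : Irreducible (MvPolynomial.map ι g))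
    (h : ∀ (v e : V k) (x : V K), eval x (MvPolynomial.map ι g) = 0 →
      eval x (MvPolynomial.map ι (psi g v e)) = 0) : False := by
  classical
  set F := MvPolynomial.map ι g
  have hF : F.IsHomogeneous 3 := hg.map ι
  refine not_forall_psiS hF hirr fun x v e hx => ?_
  let Sv : MvPolynomial (Fin 4 ⊕ Fin 4) K := ∑ i, C (S F x x (Pi.single i 1)) * X (Sum.inl i)
  let Se : MvPolynomial (Fin 4 ⊕ Fin 4) K := ∑ i, C (S F x x (Pi.single i 1)) * X (Sum.inr i)
  let T : (Fin 4 → Fin 4 ⊕ Fin 4) → (Fin 4 → Fin 4 ⊕ Fin 4) → MvPolynomial (Fin 4 ⊕ Fin 4) K := fun a b =>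
    ∑ i, ∑ j, C (S F x (Pi.single i 1) (Pi.single j 1)) * (X (a i) * X (b j))
  let Φ := Se ^ 2 * T Sum.inl Sum.inl - 2 * Se * Sv * T Sum.inl Sum.inr + Sv ^ 2 * T Sum.inr Sum.inr
  have hΦ : ∀ z : Fin 4 ⊕ Fin 4 → K, eval z Φ = psiS F x (z ∘ Sum.inl) (z ∘ Sum.inr) := by
    intro z
    have e1 : ∀ a : Fin 4 → Fin 4 ⊕ Fin 4, eval z (∑ i, C (S F x x (Pi.single i 1)) * X (a i)) = S F x x (z ∘ a) :=
      fun a => by rw [S_lin3 x x (z ∘ a)]; simp [mul_comm]
    have e2 : ∀ a b : Fin 4 → Fin 4 ⊕ Fin 4, eval z (T a b) = S F x (z ∘ a) (z ∘ b) := fun a b => by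
      rw [S_lin23 x (z ∘ a) (z ∘ b)]; simp [T]; simp [mul_assoc, mul_comm, mul_left_comm]
    simp only [Φ, Sv, Se, psiS, map_add, map_sub, map_mul, map_pow, map_ofNat, e1, e2]
  have hinf : (Set.range ι).Infinite := by
    have : Infinite k := Infinite.of_injective _ Nat.cast_injective
    exact Set.infinite_range_of_injective ι.injective
  have h0 : Φ = 0 := MvPolynomial.funext_set (fun _ => Set.range ι) (fun _ => hinf) fun z hz => by
    choose z' hz' using fun i => hz i (Set.mem_univ i)
    obtain rfl : z = ι ∘ z' := funext fun i => (hz' i).symm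
    rw [map_zero, hΦ]
    have := h (z' ∘ Sum.inl) (z' ∘ Sum.inr) x (by rw [eval_eq_S hF]; exact hx)
    rw [map_psi, eval_psi hF] at this
    exact (mul_eq_zero.mp this).resolve_left (by norm_num)
  have := hΦ (Sum.elim v e)
  rw [h0, map_zero, Sum.elim_comp_inl, Sum.elim_comp_inr] at this
  exact this.symm

end BaseChange

theorem irreducible_of_map {k : Type w} [Field k] (ι : k →+* K) {g : MvPolynomial (Fin 4) k}
    (h : Irreducible (MvPolynomial.map ι g)) : Irreducible g := by
  have hu : ∀ p : MvPolynomial (Fin 4) k, IsUnit (MvPolynomial.map ι p) → IsUnit p := fun p hp => by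
    rw [MvPolynomial.isUnit_iff_totalDegree_of_isReduced] at hp ⊢
    refine ⟨isUnit_iff_ne_zero.mpr fun h0 => ?_, ?_⟩
    · have := hp.1
      rw [coeff_map, h0, map_zero] at this
      exact not_isUnit_zero this
    · rw [← hp.2, MvPolynomial.totalDegree, MvPolynomial.totalDegree, support_map_of_injective _ ι.injective]
  exact ⟨fun hg => h.not_isUnit (hg.map _), fun a b hab =>
    (h.isUnit_or_isUnit (by rw [hab, map_mul])).imp (hu a) (hu b)⟩

/-- a monic cubic, parametrised by lines, whose roots give good points -/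
theorem exists_cubic {k : Type u} [Field k] [CharZero k] {K' : Type u} [Field K'] [CharZero K'] [IsAlgClosed K']
    (ι : k →+* K') {g : MvPolynomial (Fin 4) k} (hg : g.IsHomogeneous 3) (hirr : Irreducible (MvPolynomial.map ι g)) :
    ∃ (y o : V k) (p : Polynomial k), p.Monic ∧ p.natDegree = 3 ∧
      ∀ (E : Type w) [Field E] [CharZero E] (j : k →+* E) (θ : E), p.eval₂ j θ = 0 → Good (MvPolynomial.map j g) := by
  classical
  have hgi := irreducible_of_map ι hirr
  have : Infinite k := Infinite.of_injective _ Nat.cast_injective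
  obtain ⟨v, e, hve⟩ : ∃ v e, ¬ g ∣ psi g v e := by
    by_contra hc
    push Not at hc
    refine exists_psi_not_dvd ι hg hirr fun v e x hx => ?_
    obtain ⟨q, hq⟩ := hc v e
    rw [hq, map_mul, map_mul, hx, zero_mul]
  obtain ⟨o, ho⟩ : ∃ o, eval o g ≠ 0 := by
    by_contra hc
    push Not at hc
    exact hgi.ne_zero (MvPolynomial.funext fun x => by rw [hc, map_zero])
  let θ : (MvPolynomial (Fin 4) k) →+* Polynomial (MvPolynomial (Fin 4) k) :=
    eval₂Hom (Polynomial.C.comp C) fun i => Polynomial.C (X i) + Polynomial.X * Polynomial.C (C (o i))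
  let α : Polynomial (MvPolynomial (Fin 4) k) →+* Polynomial (MvPolynomial (Fin 4) k) := Polynomial.eval₂RingHom θ Polynomial.X
  let θ' : (MvPolynomial (Fin 4) k) →+* Polynomial (MvPolynomial (Fin 4) k) :=
    eval₂Hom (Polynomial.C.comp C) fun i => Polynomial.C (X i) - Polynomial.X * Polynomial.C (C (o i))
  let α' : Polynomial (MvPolynomial (Fin 4) k) →+* Polynomial (MvPolynomial (Fin 4) k) := Polynomial.eval₂RingHom θ' Polynomial.X
  have hα : ∀ q, α' (α q) = q := fun q => by
    have : α'.comp α = RingHom.id _ := Polynomial.ringHom_ext (fun r => by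
      have : (α'.comp α).comp Polynomial.C = Polynomial.C :=
        MvPolynomial.ringHom_ext (fun c => by simp [α, α', θ, θ', MvPolynomial.eval₂Hom_C, MvPolynomial.eval₂Hom_X']) fun i => by simp [α, α', θ, θ', MvPolynomial.eval₂Hom_C, MvPolynomial.eval₂Hom_X']
      exact congrArg (fun φ => φ r) this) (by simp [α, α'])
    exact congrArg (fun φ => φ q) this
  have hα' : ∀ q, α (α' q) = q := fun q => by
    have : α.comp α' = RingHom.id _ := Polynomial.ringHom_ext (fun r => by
      have : (α.comp α').comp Polynomial.C = Polynomial.C :=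
        MvPolynomial.ringHom_ext (fun c => by simp [α, α', θ, θ', MvPolynomial.eval₂Hom_C, MvPolynomial.eval₂Hom_X']) fun i => by simp [α, α', θ, θ', MvPolynomial.eval₂Hom_C, MvPolynomial.eval₂Hom_X']
      exact congrArg (fun φ => φ r) this) (by simp [α, α'])
    exact congrArg (fun φ => φ q) this
  let A : Polynomial (MvPolynomial (Fin 4) k) ≃+* Polynomial (MvPolynomial (Fin 4) k) := RingEquiv.ofRingHom α α' (RingHom.ext hα') (RingHom.ext hα)
  have hAC : ∀ r, A (Polynomial.C r) = θ r := fun r => Polynomial.eval₂_C θ Polynomial.X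
  set c := eval o g with hc
  let p' : Polynomial (MvPolynomial (Fin 4) k) := Polynomial.C (C c⁻¹) * θ g
  have hpu : IsUnit (Polynomial.C (C c⁻¹ : (MvPolynomial (Fin 4) k))) := ((isUnit_iff_ne_zero.mpr (inv_ne_zero ho)).map C).map Polynomial.C
  have hprime : Prime p' := by
    have h1 : Prime (θ g) := by
      rw [← hAC]
      exact (MulEquiv.prime_iff A).mpr (Polynomial.prime_C_iff.mpr hgi.prime)
    exact (associated_unit_mul_right (θ g) _ hpu).prime h1
  have hspec : ∀ (t : k) (y : V k), ((θ g).map (eval y)).eval t = eval (y + t • o) g := fun t y => by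
    have : ((Polynomial.evalRingHom t).comp (Polynomial.mapRingHom (eval y))).comp θ = eval (y + t • o) :=
      MvPolynomial.ringHom_ext (fun r => by simp [θ, MvPolynomial.eval₂Hom_C]) fun i => by (simp [θ, MvPolynomial.eval₂Hom_X']; try ring)
    exact congrArg (fun φ => φ g) this
  have hform : θ g = Polynomial.C (C c) * Polynomial.X ^ 3 + Polynomial.C (polA g o) * Polynomial.X +
      Polynomial.C (∑ i, C (o i) * polA g (Pi.single i 1) * 0) +
      Polynomial.C (C (1 / 2) * polB g o o) * Polynomial.X ^ 2 + Polynomial.C g := by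
    refine Polynomial.ext fun n => MvPolynomial.funext fun y => ?_
    have h2 : (θ g).map (eval y) = (Polynomial.C (C c) * Polynomial.X ^ 3 + Polynomial.C (polA g o) * Polynomial.X +
      Polynomial.C (∑ i, C (o i) * polA g (Pi.single i 1) * 0) +
      Polynomial.C (C (1 / 2) * polB g o o) * Polynomial.X ^ 2 + Polynomial.C g).map (eval y) :=
      Polynomial.funext fun t => by
        rw [hspec, eval_eq_S hg, expand]
        simp [eval_polA hg, eval_polB hg, eval_eq_S hg, hc]
        ring
    simpa only [Polynomial.coeff_map] using congrArg (fun q => q.coeff n) h2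
  have hmonic : p'.Monic ∧ p'.natDegree = 3 := by
    have hb : p' = Polynomial.X ^ 3 + (Polynomial.C (C c⁻¹ * C (1 / 2) * polB g o o) * Polynomial.X ^ 2 +
        Polynomial.C (C c⁻¹ * polA g o) * Polynomial.X + Polynomial.C (C c⁻¹ * g)) := by
      simp only [p', hform, mul_zero, Finset.sum_const_zero, map_zero, map_mul]
      have : (Polynomial.C (C c⁻¹ : (MvPolynomial (Fin 4) k))) * Polynomial.C (C c) = 1 := by
        rw [← map_mul, ← map_mul, inv_mul_cancel₀ ho, map_one, map_one]
      linear_combination (Polynomial.X ^ 3 : Polynomial (MvPolynomial (Fin 4) k)) * this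
    rw [hb]
    constructor
    · monicity!
    · compute_degree!
  let R' := AdjoinRoot p'
  have : (Ideal.span {p'}).IsPrime := (Ideal.span_singleton_prime hprime.ne_zero).mpr hprime
  have : IsDomain R' := Ideal.Quotient.isDomain _
  have : Module.Finite (MvPolynomial (Fin 4) k) R' := hmonic.1.finite_adjoinRoot
  have hne : AdjoinRoot.mk p' (θ (psi g v e)) ≠ 0 := by
    rw [Ne, AdjoinRoot.mk_eq_zero]
    intro h
    have h1 : A (Polynomial.C g) ∣ A (Polynomial.C (psi g v e)) := by
      rw [hAC, hAC]; exact (dvd_mul_left _ _).trans h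
    exact hve ((by simpa using (Polynomial.C_dvd_iff_dvd_coeff _ _).mp ((map_dvd_iff A).mp h1) 0))
  have hJ : (Ideal.span {AdjoinRoot.mk p' (θ (psi g v e))}).comap (algebraMap (MvPolynomial (Fin 4) k) R') ≠ ⊥ := fun h =>
    hne (Ideal.span_singleton_eq_bot.mp (Ideal.eq_bot_of_comap_eq_bot h))
  obtain ⟨r, hr, hr0⟩ := Submodule.exists_mem_ne_zero_of_ne_bot hJ
  obtain ⟨b', hb'⟩ := Ideal.mem_span_singleton'.mp (Ideal.mem_comap.mp hr)
  obtain ⟨b, rfl⟩ := AdjoinRoot.mk_surjective b'
  rw [← map_mul, AdjoinRoot.algebraMap_eq, ← AdjoinRoot.mk_C, AdjoinRoot.mk_eq_mk] at hb'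
  obtain ⟨q, hq⟩ := hb'
  obtain ⟨y, hy⟩ : ∃ y, eval y r ≠ 0 := by
    by_contra hc
    push Not at hc
    exact hr0 (MvPolynomial.funext fun x => by rw [hc, map_zero])
  refine ⟨y, o, p'.map (eval y), hmonic.1.map _, ?_, fun E _ _ j t ht => ?_⟩
  · rw [hmonic.1.natDegree_map]; exact hmonic.2
  · let ev : Polynomial (MvPolynomial (Fin 4) k) →+* E := Polynomial.eval₂RingHom (j.comp (eval y)) t
    have hevp : ev p' = 0 := by
      rw [← ht, Polynomial.eval₂_map]; rfl
    have hevC : ev (Polynomial.C r) = j (eval y r) := Polynomial.eval₂_C _ _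
    have hevθ : ∀ m : (MvPolynomial (Fin 4) k), ev (θ m) = eval (fun i => j (y i) + t * j (o i)) (MvPolynomial.map j m) := fun m => by
      have : ev.comp θ = (eval fun i => j (y i) + t * j (o i)).comp (MvPolynomial.map j) :=
        MvPolynomial.ringHom_ext (fun c => by simp [θ, ev, MvPolynomial.eval₂Hom_C]) fun i => by (simp [θ, ev, MvPolynomial.eval₂Hom_X']; try ring)
      exact congrArg (fun φ => φ m) this
    have hG : (MvPolynomial.map j g).IsHomogeneous 3 := hg.map j
    refine good_of_ne (x := fun i => j (y i) + t * j (o i)) (v := j ∘ v) (e := j ∘ e) ?_ fun hz => ?_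
    · rw [← eval_eq_S hG, ← hevθ]
      have : ev p' = ev (Polynomial.C (C c⁻¹)) * ev (θ g) := map_mul ev _ _
      rw [hevp] at this
      exact (mul_eq_zero.mp this.symm).resolve_left (hpu.map ev).ne_zero
    · have h1 := congrArg ev hq
      rw [map_sub, map_mul, map_mul, hevp, zero_mul, hevθ, map_psi, eval_psi hG, hz, mul_zero, mul_zero, zero_sub,
        hevC, neg_eq_zero, map_eq_zero] at h1
      exact hy h1

theorem exists_binary_split [IsAlgClosed K] (c₃ c₂ c₁ c₀ : K) : ∃ a b : Fin 3 → K, ∀ x y : K,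
    c₃ * x ^ 3 + c₂ * x ^ 2 * y + c₁ * x * y ^ 2 + c₀ * y ^ 3 =
      (a 0 * x + b 0 * y) * (a 1 * x + b 1 * y) * (a 2 * x + b 2 * y) := by
  have hquad : ∀ A B D : K, ∃ a₁ b₁ a₂ b₂ : K, ∀ x y : K,
      A * x ^ 2 + B * x * y + D * y ^ 2 = (a₁ * x + b₁ * y) * (a₂ * x + b₂ * y) := by
    intro A B D
    by_cases hA : A = 0
    · exact ⟨0, 1, B, D, fun x y => by rw [hA]; ring⟩
    · obtain ⟨r, hr⟩ := IsAlgClosed.exists_root (k := K)
        (Polynomial.C A * Polynomial.X ^ 2 + Polynomial.C B * Polynomial.X + Polynomial.C D)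
        (by rw [Polynomial.degree_quadratic hA]; decide)
      simp [Polynomial.IsRoot] at hr
      exact ⟨1, -r, A, B + r * A, fun x y => by linear_combination y ^ 2 * hr⟩
  by_cases h3 : c₃ = 0
  · obtain ⟨a₁, b₁, a₂, b₂, h⟩ := hquad c₂ c₁ c₀
    refine ⟨![0, a₁, a₂], ![1, b₁, b₂], fun x y => ?_⟩
    simp only [Matrix.cons_val]
    rw [h3]
    linear_combination y * h x y
  · obtain ⟨r, hr⟩ := IsAlgClosed.exists_root (k := K)
      (Polynomial.C c₃ * Polynomial.X ^ 3 + Polynomial.C c₂ * Polynomial.X ^ 2 + Polynomial.C c₁ * Polynomial.X +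
        Polynomial.C c₀) (by rw [Polynomial.degree_cubic h3]; decide)
    simp [Polynomial.IsRoot] at hr
    obtain ⟨a₁, b₁, a₂, b₂, h⟩ := hquad c₃ (c₂ + r * c₃) (c₁ + r * (c₂ + r * c₃))
    refine ⟨![1, a₁, a₂], ![-r, b₁, b₂], fun x y => ?_⟩
    simp only [Matrix.cons_val]
    linear_combination (x - r * y) * h x y + y ^ 3 * hr

theorem map_S {k : Type w} [Field k] [CharZero k] (ι : k →+* K) (g : MvPolynomial (Fin 4) k) (x y z : V k) :
    S (MvPolynomial.map ι g) (ι ∘ x) (ι ∘ y) (ι ∘ z) = ι (S g x y z) := by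
  have hc : ∀ a b c, c3 (MvPolynomial.map ι g) a b c = ι (c3 g a b c) := fun a b c => by
    simp only [c3, pderiv_map]
    rw [show (0 : V K) = ι ∘ (0 : V k) by funext i; simp, MvPolynomial.eval_map, ← MvPolynomial.eval₂_comp]
  simp [S, hc, map_ofNat]

end Groth.Agent.PfaffCubic
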