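import Groth.Agent.PfaffCubic.Points
import Mathlib.FieldTheory.IntermediateField.Adjoin.Basic
import Mathlib.FieldTheory.IsAlgClosed.AlgebraicClosure
import Mathlib.Analysis.Complex.Polynomial.Basic
import Mathlib.Algebra.Polynomial.SpecificDegree

/-!
# Pfaffian representations from rational points, and over extensions of degree at most three
-/

set_option autoImplicit false

open MvPolynomial Groth.Agent.CubicSurface

universe u

namespace Groth.Agent.PfaffCubic

theorem irreducible_linear {K : Type*} [Field K] {L : MvPolynomial (Fin 4) K} (hLh : L.IsHomogeneous 1) (hL0 : L ≠ 0) :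
    Irreducible L :=
  irreducible_of_totalDegree_eq_one (hLh.totalDegree hL0) fun x hx => by
    obtain ⟨d, hd⟩ := MvPolynomial.ne_zero_iff.mp hL0
    exact isUnit_iff_ne_zero.mpr fun hx0 => hd (zero_dvd_iff.mp (hx0 ▸ hx d))

variable {k : Type u} [Field k] [CharZero k] {g : MvPolynomial (Fin 4) k}
  {K : Type u} [Field K] [CharZero K] [IsAlgClosed K]

theorem good_of_singular (ι : k →+* K) (hg : g.IsHomogeneous 3)
    (hirr : Irreducible (MvPolynomial.map ι g)) {a : V k}
    (ha : ∀ v, S g a a v = 0) (hcone : polA g a ≠ 0) : Good g := by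
  classical
  have : Infinite k := Infinite.of_injective _ Nat.cast_injective
  by_contra hc
  let φ : Fin 4 → MvPolynomial (Fin 4) k := fun i => polA g a * X i - g * C (a i)
  have hφ : ∀ x, (fun i => eval x (φ i)) = (3 * S g x x a) • x + (-S g x x x) • a := fun x => by
    funext i
    simp only [φ, map_sub, map_mul, eval_X, eval_C, eval_polA hg, eval_eq_S hg, Pi.add_apply, Pi.smul_apply, smul_eq_mul]
    ring
  have hon : ∀ x, S g (fun i => eval x (φ i)) (fun i => eval x (φ i)) (fun i => eval x (φ i)) = 0 := fun x => by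
    have c1 : S g x a a = 0 := by rw [S_comm12 g x a, S_comm23 g a x, ha]
    have c2 : S g a x a = 0 := by rw [S_comm23, ha]
    have c3' : S g a x x = S g x x a := by rw [S_comm12 g a x, S_comm23 g x a]
    have c4 : S g x a x = S g x x a := S_comm23 g x a x
    rw [hφ]
    simp only [S_add1, S_add2, S_add3, S_smul1, S_smul2, S_smul3, ha, c1, c2, c3', c4]
    ring
  refine exists_psi_not_dvd ι hg hirr fun v e x hx => ?_
  have hG : bind₁ φ (psi g v e) = 0 := MvPolynomial.funext fun y => by
    rw [map_zero, ← aeval_eq_eval, aeval_bind₁, aeval_eq_eval]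
    change eval (fun i => aeval y (φ i)) (psi g v e) = 0
    rw [show (fun i => aeval y (φ i)) = fun i => eval y (φ i) from funext fun i => by rw [aeval_eq_eval],
      eval_psi hg]
    refine mul_eq_zero_of_right _ ?_
    by_contra hne
    exact hc (good_of_ne (hon y) hne)
  set F := MvPolynomial.map ι g with hFdef
  have hF : F.IsHomogeneous 3 := hg.map ι
  have key : ∀ y, eval y F = 0 → eval y (polA F (ι ∘ a) * MvPolynomial.map ι (psi g v e)) = 0 := by
    intro y hy
    have hh : ((eval y).comp (MvPolynomial.map ι)).comp (bind₁ φ).toRingHom =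
        (eval fun i => eval y (MvPolynomial.map ι (φ i))).comp (MvPolynomial.map ι) :=
      MvPolynomial.ringHom_ext (fun c => by simp) fun i => by simp
    have h1 := congrArg (fun ψ => ψ (psi g v e)) hh
    simp only [RingHom.comp_apply, AlgHom.toRingHom_eq_coe, RingHom.coe_coe, hG, map_zero] at h1
    have h2 : (fun i => eval y (MvPolynomial.map ι (φ i))) = eval y (polA F (ι ∘ a)) • y := by
      funext i
      simp [φ, map_polA, ← hFdef, hy]
    rw [h2, map_psi, eval_psi (hg.map ι), psiS_smul] at h1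
    rw [map_mul, map_psi, eval_psi (hg.map ι)]
    rcases eq_or_ne (eval y (polA F (ι ∘ a))) 0 with h0 | h0
    · rw [h0, zero_mul]
    · have h3 : psiS F y (ι ∘ v) (ι ∘ e) = 0 := by
        have h3' := (mul_eq_zero.mp h1.symm).resolve_left (by norm_num)
        exact (mul_eq_zero.mp h3').resolve_left (pow_ne_zero _ h0)
      rw [h3, mul_zero, mul_zero]
  rcases hirr.prime.dvd_or_dvd (dvd_of_vanish hirr key) with h | h
  · refine absurd h (not_dvd_of_lt hF hirr.ne_zero (polA_hom hF _) ?_ (by norm_num))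
    rw [← map_polA]
    exact fun h0 => hcone (MvPolynomial.map_injective ι ι.injective (by rw [h0, map_zero]))
  · obtain ⟨q, hq⟩ := h
    rw [hq, map_mul, hx, zero_mul]

theorem good_of_not_tPoint (ι : k →+* K) (hg : g.IsHomogeneous 3) {a : V k} (ha : a ≠ 0) (hga : S g a a a = 0) {e : V k}
    (he : S g a a e = 1)
    (hT : ¬ ∃ L₁ L₂ L₃ : MvPolynomial (Fin 4) K, L₁.IsHomogeneous 1 ∧ L₂.IsHomogeneous 1 ∧
      L₃.IsHomogeneous 1 ∧ MvPolynomial.map ι g - L₁ * L₂ * L₃ ∈
        Ideal.span {MvPolynomial.map ι (∑ i, C (eval a (pderiv i g)) * X i)}) :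
    Good g := by
  classical
  by_contra hc
  have hflat : ∀ v, S g a a v = 0 → S g a v v = 0 := fun v hv => by
    by_contra h
    exact hc ⟨a, v, e, hga, hv, h, by rw [he]; exact one_ne_zero⟩
  set T := LinearMap.ker (SL g a a)
  have hTrank : 3 ≤ Module.finrank k T := by
    have h2 := LinearMap.finrank_range_add_finrank_ker (SL g a a)
    have h3 : Module.finrank k (LinearMap.range (SL g a a)) ≤ 1 := by
      simpa using Submodule.finrank_le (LinearMap.range (SL g a a))
    rw [Module.finrank_fin_fun] at h2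
    change 3 ≤ Module.finrank k (LinearMap.ker (SL g a a))
    omega
  obtain ⟨w₁, hw₁, hw₁'⟩ : ∃ w ∈ T, w ∉ Submodule.span k ({a} : Set (V k)) := by
    by_contra hn
    push Not at hn
    have := Submodule.finrank_mono (show T ≤ Submodule.span k ({a} : Set (V k)) from hn)
    rw [finrank_span_singleton ha] at this
    omega
  obtain ⟨w₂, hw₂, hw₂'⟩ : ∃ w ∈ T, w ∉ Submodule.span k ({a, w₁} : Set (V k)) := by
    by_contra hn
    push Not at hn
    have := Submodule.finrank_mono (show T ≤ Submodule.span k ({a, w₁} : Set (V k)) from hn)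
    have h1 := finrank_span_le_card (R := k) ({a, w₁} : Set (V k))
    have h2 : ({a, w₁} : Set (V k)).toFinset.card ≤ 2 := by simpa using Finset.card_le_two (a := a) (b := w₁)
    omega
  simp only [T, LinearMap.mem_ker, SL_apply] at hw₁ hw₂
  have hli : LinearIndependent k ![a, w₁, w₂, e] := by
    rw [Fintype.linearIndependent_iff]
    intro c hc0
    simp only [Fin.sum_univ_four, Matrix.cons_val] at hc0
    have h3 : c 3 = 0 := by
      have := congrArg (fun x => S g a a x) hc0
      simp only [S_add3, S_smul3, hga, hw₁, hw₂, he] at this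
      rw [show S g a a (0 : V k) = 0 by simp [S]] at this
      linear_combination this
    rw [h3, zero_smul, add_zero] at hc0
    have h2 : c 2 = 0 := by
      by_contra hne
      refine hw₂' ?_
      have h' := congrArg (fun x => (c 2)⁻¹ • x) hc0
      simp only [smul_add, smul_smul, smul_zero, inv_mul_cancel₀ hne, one_smul] at h'
      rw [show w₂ = (-((c 2)⁻¹ * c 0)) • a + (-((c 2)⁻¹ * c 1)) • w₁ by linear_combination (norm := module) h']
      exact Submodule.add_mem _ (Submodule.smul_mem _ _ (Submodule.subset_span (Set.mem_insert _ _)))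
        (Submodule.smul_mem _ _ (Submodule.subset_span (Set.mem_insert_of_mem _ rfl)))
    rw [h2, zero_smul, add_zero] at hc0
    have h1 : c 1 = 0 := by
      by_contra hne
      refine hw₁' ?_
      have h' := congrArg (fun x => (c 1)⁻¹ • x) hc0
      simp only [smul_add, smul_smul, smul_zero, inv_mul_cancel₀ hne, one_smul] at h'
      rw [show w₁ = (-((c 1)⁻¹ * c 0)) • a by linear_combination (norm := module) h']
      exact Submodule.smul_mem _ _ (Submodule.mem_span_singleton_self a)
    rw [h1, zero_smul, add_zero] at hc0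
    have h0 : c 0 = 0 := (smul_eq_zero.mp hc0).resolve_right ha
    intro i
    fin_cases i <;> assumption
  let b := basisOfLinearIndependentOfCardEqFinrank hli (by simp)
  have hb : ∀ i, b i = ![a, w₁, w₂, e] i := fun i => by simp [b]
  let r : Fin 4 → Fin 4 → k := fun i j => b.repr (Pi.single j 1) i
  let β : V K → Fin 4 → K := fun x i => ∑ j, ι (r i j) * x j
  have hx : ∀ x : V K,
      x = β x 0 • (ι ∘ a) + β x 1 • (ι ∘ w₁) + β x 2 • (ι ∘ w₂) + β x 3 • (ι ∘ e) := by
    intro x
    funext m
    have hm : ∀ j, ∑ i, r i j * ![a, w₁, w₂, e] i m = (Pi.single j 1 : V k) m := fun j => by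
      conv_rhs => rw [← b.sum_repr (Pi.single j 1)]
      rw [Finset.sum_apply]
      exact Finset.sum_congr rfl fun i _ => by rw [Pi.smul_apply, smul_eq_mul, hb]
    have : x m = ∑ i, β x i * ι (![a, w₁, w₂, e] i m) := by
      simp only [β, Finset.sum_mul]
      rw [Finset.sum_comm]
      calc x m = ∑ j, x j * ι ((Pi.single j 1 : V k) m) := by
            rw [Finset.sum_eq_single m (fun j _ hj => by simp [Pi.single_eq_of_ne hj.symm]) (by simp)]; simp
        _ = _ := Finset.sum_congr rfl fun j _ => by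
            rw [← hm, map_sum, Finset.mul_sum]
            exact Finset.sum_congr rfl fun i _ => by rw [map_mul]; ring
    simpa [Fin.sum_univ_four] using this
  set F := MvPolynomial.map ι g
  have hF : F.IsHomogeneous 3 := hg.map ι
  have hFS : ∀ x y z, S F (ι ∘ x) (ι ∘ y) (ι ∘ z) = ι (S g x y z) := map_S ι g
  have hpol : S g a w₁ w₂ = 0 := by
    have h := hflat (w₁ + w₂) (by rw [S_add3, hw₁, hw₂, add_zero])
    rw [S_add2, S_add3, S_add3, hflat w₁ hw₁, hflat w₂ hw₂, S_comm23 g a w₂ w₁] at h
    linear_combination h / 2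
  obtain ⟨p, q, hpq⟩ := exists_binary_split (K := K) (ι (S g w₁ w₁ w₁)) (3 * ι (S g w₁ w₁ w₂))
    (3 * ι (S g w₁ w₂ w₂)) (ι (S g w₂ w₂ w₂))
  let L : Fin 3 → MvPolynomial (Fin 4) K := fun i =>
    ∑ j, C (p i * ι (r 1 j) + q i * ι (r 2 j)) * X j
  have hL : ∀ x i, eval x (L i) = p i * β x 1 + q i * β x 2 := fun x i => by
    simp only [L, β, map_sum, map_mul, map_add, eval_C, eval_X, Finset.mul_sum, ← Finset.sum_add_distrib]
    exact Finset.sum_congr rfl fun j _ => by ring
  have hLh : ∀ i, (L i).IsHomogeneous 1 := fun i =>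
    IsHomogeneous.sum _ _ 1 fun j _ => (isHomogeneous_X K j).C_mul _
  refine hT ⟨L 0, L 1, L 2, hLh 0, hLh 1, hLh 2, ?_⟩
  set ℓ := MvPolynomial.map ι (∑ i, C (eval a (pderiv i g)) * X i) with hℓ
  have hℓx : ∀ x, eval x ℓ = 3 * S F (ι ∘ a) (ι ∘ a) x := fun x => by
    have h1 : ∀ i, S F (ι ∘ a) (ι ∘ a) (Pi.single i 1) = ι (S g a a (Pi.single i 1)) := fun i => by
      rw [← hFS a a (Pi.single i 1)]
      congr 1
      funext j
      rcases eq_or_ne j i with rfl | hj
      · simp
      · simp [Pi.single_eq_of_ne hj]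
    rw [S_lin3 _ _ x, Finset.mul_sum, hℓ]
    simp only [map_sum, map_mul, map_C, map_X, eval_C, eval_X, eval_pderiv_eq_S hg, h1, map_ofNat]
    exact Finset.sum_congr rfl fun i _ => by ring
  have hℓh : ℓ.IsHomogeneous 1 :=
    (IsHomogeneous.sum _ _ 1 fun j _ => by simpa using (isHomogeneous_X k j).C_mul _).map ι
  have hℓ0 : ℓ ≠ 0 := fun h0 => by
    have := hℓx (ι ∘ e)
    rw [h0, map_zero, hFS, he, map_one, mul_one] at this
    norm_num at this
  rw [Ideal.mem_span_singleton]
  refine dvd_of_vanish (irreducible_linear hℓh hℓ0) fun x hxl => ?_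
  have h3 : β x 3 = 0 := by
    rw [hℓx, mul_eq_zero] at hxl
    have := hxl.resolve_left (by norm_num)
    rw [hx x] at this
    simp only [S_add3, S_smul3, hFS, hga, hw₁, hw₂, he, map_zero, map_one] at this
    linear_combination this
  have hxe : x = β x 0 • (ι ∘ a) + β x 1 • (ι ∘ w₁) + β x 2 • (ι ∘ w₂) := by
    conv_lhs => rw [hx x]
    rw [h3, zero_smul, add_zero]
  rw [map_sub, map_mul, map_mul, hL, hL, hL, ← hpq, eval_eq_S hF]
  generalize β x 0 = t₀, β x 1 = t₁, β x 2 = t₂ at hxe ⊢
  subst hxe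
  simp only [S_add1, S_add2, S_add3, S_smul1, S_smul2, S_smul3, hFS]
  have z0 : ∀ x y, S g x a y = S g a x y := fun x y => S_comm12 g x a y
  have z1 : ∀ x y, S g x y a = S g a x y := fun x y => by rw [S_comm23 g x y a, S_comm12 g x a y]
  have z2 : ∀ x, S g a x a = S g a a x := fun x => S_comm23 g a x a
  have p1 : S g w₁ w₂ w₁ = S g w₁ w₁ w₂ := S_comm23 _ _ _ _
  have p2 : S g w₂ w₁ w₁ = S g w₁ w₁ w₂ := by rw [S_comm12, p1]
  have p3 : S g w₂ w₁ w₂ = S g w₁ w₂ w₂ := S_comm12 _ _ _ _
  have p4 : S g w₂ w₂ w₁ = S g w₁ w₂ w₂ := by rw [S_comm23, p3]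
  have p5 : S g a w₂ w₁ = 0 := by rw [S_comm23, hpol]
  simp only [z0, z1, z2, p1, p2, p3, p4, p5, hpol, hga, hw₁, hw₂, hflat w₁ hw₁, hflat w₂ hw₂, map_zero]
  ring

theorem hasRep_of_ratPoint (hg : g.IsHomogeneous 3)
    (hirr : Irreducible (MvPolynomial.map (algebraMap k (AlgebraicClosure k)) g))
    (hcone : ¬ ∃ v : V k, v ≠ 0 ∧ ∑ i, v i • pderiv i g = 0) {a : V k} (ha : a ≠ 0) (hga : eval a g = 0)
    (hT : ¬ ∃ L₁ L₂ L₃ : MvPolynomial (Fin 4) (AlgebraicClosure k), L₁.IsHomogeneous 1 ∧ L₂.IsHomogeneous 1 ∧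
      L₃.IsHomogeneous 1 ∧ MvPolynomial.map (algebraMap k (AlgebraicClosure k)) g - L₁ * L₂ * L₃ ∈
        Ideal.span {MvPolynomial.map (algebraMap k (AlgebraicClosure k)) (∑ i, C (eval a (pderiv i g)) * X i)}) :
    HasRep g := by
  refine hasRep_of_exists_good hg ?_
  rw [eval_eq_S hg] at hga
  by_cases hs : ∀ v, S g a a v = 0
  · refine good_of_singular (algebraMap k (AlgebraicClosure k)) hg hirr hs fun h0 => hcone ⟨a, ha, ?_⟩
    rw [← h0]
    simp [polA, smul_eq_C_mul]
  · push Not at hs
    obtain ⟨v, hv⟩ := hs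
    exact good_of_not_tPoint (algebraMap k (AlgebraicClosure k)) hg ha hga (e := (S g a a v)⁻¹ • v) (by rw [S_smul3, inv_mul_cancel₀ hv]) hT

theorem exists_intermediateField_hasRep {K : Type*} [Field K] [CharZero K] [Algebra k K] (hg : g.IsHomogeneous 3)
    (hirr : Irreducible (MvPolynomial.map (algebraMap k (AlgebraicClosure k)) g))
    (hroot : ∀ p : Polynomial k, p.Monic → p.natDegree = 3 → ∃ θ : K, Polynomial.aeval θ p = 0) :
    ∃ E : IntermediateField k K, FiniteDimensional k E ∧ Module.finrank k E ≤ 3 ∧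
      HasRep (MvPolynomial.map (algebraMap k E) g) := by
  obtain ⟨y, o, p, hp, hd, hgood⟩ := exists_cubic (algebraMap k (AlgebraicClosure k)) hg hirr
  obtain ⟨θ, hθ⟩ := hroot p hp hd
  have hint : IsIntegral k θ := ⟨p, hp, hθ⟩
  let E := IntermediateField.adjoin k ({θ} : Set K)
  refine ⟨E, IntermediateField.adjoin.finiteDimensional hint, ?_, ?_⟩
  · rw [IntermediateField.adjoin.finrank hint, ← hd]
    exact Polynomial.natDegree_le_of_dvd (minpoly.dvd k θ hθ) hp.ne_zero
  · have : CharZero E := charZero_of_injective_algebraMap (algebraMap k E).injective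
    refine hasRep_of_exists_good (hg.map _) (hgood E (algebraMap k E) (IntermediateField.AdjoinSimple.gen k θ) ?_)
    rw [← Polynomial.aeval_def]
    refine Subtype.ext ?_
    change E.val (Polynomial.aeval (IntermediateField.AdjoinSimple.gen k θ) p) = 0
    rw [← Polynomial.aeval_algHom_apply]
    exact hθ

theorem exists_real_root (p : Polynomial k) [Algebra k ℝ] (hp : p.Monic) (hd : p.natDegree = 3) :
    ∃ θ : ℝ, Polynomial.aeval θ p = 0 := by
  set q := p.map (algebraMap k ℝ)
  have hq : q.Monic := hp.map _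
  have hqd : q.natDegree = 3 := by rw [hp.natDegree_map, hd]
  by_contra hc
  push Not at hc
  have hirr : Irreducible q := by
    rw [hq.irreducible_iff_roots_eq_zero_of_degree_le_three (by omega) (by omega)]
    refine Multiset.eq_zero_of_forall_notMem fun θ hθ => ?_
    rw [Polynomial.mem_roots hq.ne_zero, Polynomial.IsRoot, Polynomial.eval_map, ← Polynomial.aeval_def] at hθ
    exact hc θ hθ
  have := hirr.natDegree_le_two
  omega

end Groth.Agent.PfaffCubic
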